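import Mathlib
import Cfsg.Agent.Lib.Helper90.KS12.ALTail2

/-!
# KS12 / S2953: the abstract lemma AL, step 7b and the tail statement
-/

set_option autoImplicit false

namespace Cfsg.Agent.Lib.Helper90.KS12

variable {G : Type*} [Group G]

/-- `W' ∪ W' c` as a subgroup, for an involution `c` centralizing `W'`. -/
def Yc (W' : Subgroup G) (c : G) (hc : ∀ b ∈ W', b * c = c * b) (hc2 : c * c = 1) :
    Subgroup G where
  carrier := {y | y ∈ W' ∨ y * c ∈ W'}
  one_mem' := Or.inl W'.one_mem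
  mul_mem' := by
    intro a b (ha : a ∈ W' ∨ a * c ∈ W') (hb : b ∈ W' ∨ b * c ∈ W')
    show a * b ∈ W' ∨ a * b * c ∈ W'
    rcases ha with ha | ha
    · rcases hb with hb | hb
      · exact Or.inl (W'.mul_mem ha hb)
      · right
        have e : a * b * c = a * (b * c) := by group
        rw [e]
        exact W'.mul_mem ha hb
    · rcases hb with hb | hb
      · right
        have e : a * b * c = (a * c) * b := by
          rw [mul_assoc, hc b hb, ← mul_assoc]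
        rw [e]
        exact W'.mul_mem ha hb
      · left
        have e : a * b = (a * c) * (b * c) := by
          have h1 := hc (b * c) hb
          calc a * b = a * ((b * c) * c) := by rw [mul_assoc b c c, hc2, mul_one]
            _ = a * (c * (b * c)) := by rw [h1]
            _ = (a * c) * (b * c) := by group
        rw [e]
        exact W'.mul_mem ha hb
  inv_mem' := by
    intro a (ha : a ∈ W' ∨ a * c ∈ W')
    show a⁻¹ ∈ W' ∨ a⁻¹ * c ∈ W'
    rcases ha with ha | ha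
    · exact Or.inl (W'.inv_mem ha)
    · right
      have hw := W'.inv_mem ha
      have h1 := hc _ hw
      have e : a⁻¹ * c = (a * c)⁻¹ := by
        calc a⁻¹ * c = (c * (a * c)⁻¹) * c := by group
          _ = ((a * c)⁻¹ * c) * c := by rw [h1]
          _ = (a * c)⁻¹ := by rw [mul_assoc, hc2, mul_one]
      rw [e]
      exact hw

theorem mem_Yc {W' : Subgroup G} {c : G} {hc : ∀ b ∈ W', b * c = c * b} {hc2 : c * c = 1}
    {y : G} : y ∈ Yc W' c hc hc2 ↔ y ∈ W' ∨ y * c ∈ W' := Iff.rfl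

namespace Ctx

variable {S T' K' W W' : Subgroup G} {x z : G}

/-- The only elements of `W'` fixed by `u` are `1` and `w0`. -/
theorem fix_u [Finite G] (c : Ctx S T' K' W W' x z) {u w0 : G} (d : UData T' W' u w0) :
    ∀ a ∈ W', u * a = a * u → a = 1 ∨ a = w0 := by
  have h1 : u ∉ Subgroup.centralizer (W' : Set G) := fun h =>
    d.huQ (Subgroup.mem_inf.2 ⟨d.hu, h⟩)
  rw [Subgroup.mem_centralizer_iff] at h1
  push Not at h1
  obtain ⟨a0, ha0, hne⟩ := h1
  have ha01 : a0 ≠ 1 := by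
    rintro rfl
    exact hne (by simp)
  have hwa : w0 ≠ a0 := by
    rintro rfl
    exact hne d.huw0.symm
  intro a ha hau
  rcases four_elems W' c.hW'4 c.hW'2 w0 a0 d.hw0 ha0 d.hw01 ha01 hwa a ha with h | h | h | h
  · exact Or.inl h
  · exact Or.inr h
  · rw [h] at hau
    exact absurd hau.symm hne
  · exfalso
    apply hne
    rw [h] at hau
    have h2 : w0 * (u * a0) = w0 * (a0 * u) := by
      calc w0 * (u * a0) = (w0 * u) * a0 := by group
        _ = (u * w0) * a0 := by rw [d.huw0]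
        _ = u * (w0 * a0) := by group
        _ = (w0 * a0) * u := hau
        _ = w0 * (a0 * u) := by group
    exact (mul_left_cancel h2).symm

/-- Commutators of elements of `K'` centralize `W'` (the quotient has order 3). -/
theorem comm_mem (c : Ctx S T' K' W W' x z) {k1 k2 : G} (hk1 : k1 ∈ K') (hk2 : k2 ∈ K') :
    k1 * k2 * k1⁻¹ * k2⁻¹ ∈ K' ⊓ Subgroup.centralizer (W' : Set G) := by
  set N : Subgroup ↥K' := (K' ⊓ Subgroup.centralizer (W' : Set G)).subgroupOf K' with hN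
  haveI hNn : N.Normal := by
    refine ⟨fun n hn g => ?_⟩
    rw [hN, Subgroup.mem_subgroupOf] at hn ⊢
    refine Subgroup.mem_inf.2 ⟨(g * n * g⁻¹).2, ?_⟩
    have h1 := conj_mem_centralizer W' (c.hK'W' g.2) (Subgroup.mem_inf.1 hn).2
    simpa using h1
  have hcard : Nat.card (↥K' ⧸ N) = 3 := by
    rw [← Subgroup.index_eq_card]
    exact c.hK'idx
  haveI : Fact (Nat.Prime 3) := ⟨by norm_num⟩
  haveI hcyc : IsCyclic (↥K' ⧸ N) := isCyclic_of_prime_card hcard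
  have hcommq : ∀ a b : ↥K' ⧸ N, a * b = b * a :=
    isMulCommutative_iff.1 IsCyclic.isMulCommutative
  have h1 : (((⟨k1, hk1⟩ : ↥K') * ⟨k2, hk2⟩ * (⟨k1, hk1⟩ : ↥K')⁻¹ * (⟨k2, hk2⟩ : ↥K')⁻¹ : ↥K') :
      ↥K' ⧸ N) = 1 := by
    rw [QuotientGroup.mk_mul, QuotientGroup.mk_mul, QuotientGroup.mk_mul, QuotientGroup.mk_inv,
      QuotientGroup.mk_inv, hcommq ((⟨k1, hk1⟩ : ↥K') : ↥K' ⧸ N) _]
    group
  rw [QuotientGroup.eq_one_iff, hN, Subgroup.mem_subgroupOf] at h1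
  simpa using h1

/-- Step 7b: for `c0 ∈ W`, `K'` centralizes `c0` or `c0 * w0`. -/
theorem cent_or [Finite G] (c : Ctx S T' K' W W' x z) {u w0 : G} (d : UData T' W' u w0)
    (hWT' : W ≤ T') {c0 : G} (hc0 : c0 ∈ W) :
    K' ≤ Subgroup.centralizer ({c0} : Set G) ∨
      K' ≤ Subgroup.centralizer ({c0 * w0} : Set G) := by
  have hWQ := c.W_le_Q d hWT'
  have hc0Q : c0 ∈ T' ⊓ Subgroup.centralizer (W' : Set G) := hWQ hc0
  have hc0x : x⁻¹ * c0 * x ∈ T' ⊓ Subgroup.centralizer (W' : Set G) :=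
    hWQ ((Subgroup.mem_normalizer_iff''.1 (c.hSW c.hxS) c0).1 hc0)
  have hcentral := c.D_central d hc0Q hc0x
  have hc0W' : ∀ b ∈ W', b * c0 = c0 * b := fun b hb =>
    (Subgroup.mem_centralizer_iff.1 (Subgroup.mem_inf.1 hc0Q).2) b hb
  have hc02 : c0 * c0 = 1 := c.hW2 c0 hc0
  have hYQ : Yc W' c0 hc0W' hc02 ≤ T' ⊓ Subgroup.centralizer (W' : Set G) := by
    intro y hy
    rcases mem_Yc.1 hy with hy | hy
    · exact c.W'_le_Q hy
    · have e : y = (y * c0) * c0 := by rw [mul_assoc, hc02, mul_one]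
      rw [e]
      exact Subgroup.mul_mem _ (c.W'_le_Q hy) hc0Q
  have hQY : T' ⊓ Subgroup.centralizer (W' : Set G) ≤
      Subgroup.normalizer ((Yc W' c0 hc0W' hc02 : Subgroup G) : Set G) := by
    intro q hq
    apply mem_normalizer_of_conj_mem
    intro y hy
    have e : q * y * q⁻¹ = y := by
      rw [c.Q_comm d hq (hYQ hy)]
      group
    rw [e]
    exact hy
  obtain ⟨hKY, -⟩ := c.lemN d (Yc W' c0 hc0W' hc02) (fun a ha => mem_Yc.2 (Or.inl ha)) hYQ hQY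
  have hKW' : ∀ k' ∈ K', ∀ a ∈ W', k' * a * k'⁻¹ ∈ W' := fun k' hk' a ha =>
    (Subgroup.mem_normalizer_iff.1 (c.hK'W' hk') a).1 ha
  have hstep : ∀ k' ∈ K', k' * c0 * k'⁻¹ * c0 ∈ W' := by
    intro k' hk'
    have hmem : c0 ∈ Yc W' c0 hc0W' hc02 := mem_Yc.2 (Or.inr (by rw [hc02]; exact W'.one_mem))
    have h1 : k' * c0 * k'⁻¹ ∈ Yc W' c0 hc0W' hc02 :=
      (Subgroup.mem_normalizer_iff.1 (hKY hk') c0).1 hmem
    rcases mem_Yc.1 h1 with h1 | h1
    · have h2 : c0 ∈ W' := by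
        have h3 := (Subgroup.mem_normalizer_iff''.1 (c.hK'W' hk') (k' * c0 * k'⁻¹)).1 h1
        have e : k'⁻¹ * (k' * c0 * k'⁻¹) * k' = c0 := by group
        rwa [e] at h3
      exact W'.mul_mem h1 h2
    · exact h1
  obtain ⟨k, hk, hkfp⟩ := c.hfp
  let φ : W' → W' := fun a => ⟨(a : G) * (k * a * k⁻¹), W'.mul_mem a.2 (hKW' k hk a a.2)⟩
  have hφ : Function.Injective φ := by
    intro a b hab
    have h1 : (a : G) * (k * a * k⁻¹) = (b : G) * (k * b * k⁻¹) := congrArg Subtype.val hab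
    have hA2 := c.hW'2 a a.2
    have hB'2 := c.hW'2 _ (hKW' k hk b b.2)
    have h2 : k * ((a : G) * b) * k⁻¹ = (a : G) * b := by
      calc k * ((a : G) * b) * k⁻¹ = (k * a * k⁻¹) * (k * b * k⁻¹) := by group
        _ = ((a : G) * a) * (k * a * k⁻¹) * (k * b * k⁻¹) := by rw [hA2, one_mul]
        _ = (a : G) * ((a : G) * (k * a * k⁻¹)) * (k * b * k⁻¹) := by group
        _ = (a : G) * ((b : G) * (k * b * k⁻¹)) * (k * b * k⁻¹) := by rw [h1]
        _ = (a : G) * b * ((k * b * k⁻¹) * (k * b * k⁻¹)) := by group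
        _ = (a : G) * b := by rw [hB'2, mul_one]
    have h3 := hkfp _ (W'.mul_mem a.2 b.2) h2
    apply Subtype.ext
    calc (a : G) = (a : G) * ((b : G) * b) := by rw [c.hW'2 b b.2, mul_one]
      _ = ((a : G) * b) * b := by group
      _ = b := by rw [h3, one_mul]
  obtain ⟨a, ha⟩ := Finite.surjective_of_injective hφ ⟨k * c0 * k⁻¹ * c0, hstep k hk⟩
  have ha' : (a : G) * (k * a * k⁻¹) = k * c0 * k⁻¹ * c0 := congrArg Subtype.val ha
  have hP : k * c0 * k⁻¹ ∈ T' ⊓ Subgroup.centralizer (W' : Set G) :=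
    c.conj_mem_Q_of_K' hk hc0Q
  have hPc : (k * c0 * k⁻¹) * c0 = c0 * (k * c0 * k⁻¹) := c.Q_comm d hP hc0Q
  have hP2 : (k * c0 * k⁻¹) * (k * c0 * k⁻¹) = 1 := c.Q_sq d _ hP
  have ha2 : (a : G) * a = 1 := c.hW'2 a a.2
  have hkc' : k * ((a : G) * c0) * k⁻¹ = (a : G) * c0 := by
    calc k * ((a : G) * c0) * k⁻¹ = (k * a * k⁻¹) * (k * c0 * k⁻¹) := by group
      _ = ((a : G) * a) * (k * a * k⁻¹) * (k * c0 * k⁻¹) := by rw [ha2, one_mul]
      _ = (a : G) * ((a : G) * (k * a * k⁻¹)) * (k * c0 * k⁻¹) := by group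
      _ = (a : G) * (k * c0 * k⁻¹ * c0) * (k * c0 * k⁻¹) := by rw [ha']
      _ = (a : G) * (c0 * (k * c0 * k⁻¹)) * (k * c0 * k⁻¹) := by rw [hPc]
      _ = (a : G) * c0 * ((k * c0 * k⁻¹) * (k * c0 * k⁻¹)) := by group
      _ = (a : G) * c0 := by rw [hP2, mul_one]
  have hc'Q : (a : G) * c0 ∈ T' ⊓ Subgroup.centralizer (W' : Set G) :=
    Subgroup.mul_mem _ (c.W'_le_Q a.2) hc0Q
  have hc'2 : ((a : G) * c0) * ((a : G) * c0) = 1 := c.Q_sq d _ hc'Q
  have hKc' : ∀ k' ∈ K', k' * ((a : G) * c0) * k'⁻¹ = (a : G) * c0 := by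
    intro k' hk'
    have hR : k' * ((a : G) * c0) * k'⁻¹ ∈ T' ⊓ Subgroup.centralizer (W' : Set G) :=
      c.conj_mem_Q_of_K' hk' hc'Q
    have heW : (k' * ((a : G) * c0) * k'⁻¹) * ((a : G) * c0) ∈ W' := by
      have hP' : k' * c0 * k'⁻¹ ∈ T' ⊓ Subgroup.centralizer (W' : Set G) :=
        c.conj_mem_Q_of_K' hk' hc0Q
      have hcm : (k' * c0 * k'⁻¹) * (a : G) = (a : G) * (k' * c0 * k'⁻¹) :=
        c.Q_comm d hP' (c.W'_le_Q a.2)
      have e : (k' * ((a : G) * c0) * k'⁻¹) * ((a : G) * c0) =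
          (k' * a * k'⁻¹) * a * (k' * c0 * k'⁻¹ * c0) := by
        calc (k' * ((a : G) * c0) * k'⁻¹) * ((a : G) * c0)
            = (k' * a * k'⁻¹) * ((k' * c0 * k'⁻¹) * (a : G)) * c0 := by group
          _ = (k' * a * k'⁻¹) * ((a : G) * (k' * c0 * k'⁻¹)) * c0 := by rw [hcm]
          _ = (k' * a * k'⁻¹) * a * (k' * c0 * k'⁻¹ * c0) := by group
      rw [e]
      exact W'.mul_mem (W'.mul_mem (hKW' k' hk' a a.2) a.2) (hstep k' hk')
    have hm : k * k' * k⁻¹ * k'⁻¹ ∈ T' ⊓ Subgroup.centralizer (W' : Set G) := by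
      have h1 := c.comm_mem hk hk'
      exact Subgroup.mem_inf.2 ⟨c.hK'C h1, (Subgroup.mem_inf.1 h1).2⟩
    have hmR : (k * k' * k⁻¹ * k'⁻¹) * (k' * ((a : G) * c0) * k'⁻¹) =
        (k' * ((a : G) * c0) * k'⁻¹) * (k * k' * k⁻¹ * k'⁻¹) := c.Q_comm d hm hR
    have hkR : k * (k' * ((a : G) * c0) * k'⁻¹) * k⁻¹ = k' * ((a : G) * c0) * k'⁻¹ := by
      calc k * (k' * ((a : G) * c0) * k'⁻¹) * k⁻¹
          = (k * k' * k⁻¹ * k'⁻¹) * (k' * (k * ((a : G) * c0) * k⁻¹) * k'⁻¹) *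
              (k * k' * k⁻¹ * k'⁻¹)⁻¹ := by group
        _ = (k * k' * k⁻¹ * k'⁻¹) * (k' * ((a : G) * c0) * k'⁻¹) *
              (k * k' * k⁻¹ * k'⁻¹)⁻¹ := by rw [hkc']
        _ = (k' * ((a : G) * c0) * k'⁻¹) * (k * k' * k⁻¹ * k'⁻¹) *
              (k * k' * k⁻¹ * k'⁻¹)⁻¹ := by rw [hmR]
        _ = k' * ((a : G) * c0) * k'⁻¹ := by group
    have hke : k * ((k' * ((a : G) * c0) * k'⁻¹) * ((a : G) * c0)) * k⁻¹ =
        (k' * ((a : G) * c0) * k'⁻¹) * ((a : G) * c0) := by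
      calc k * ((k' * ((a : G) * c0) * k'⁻¹) * ((a : G) * c0)) * k⁻¹
          = (k * (k' * ((a : G) * c0) * k'⁻¹) * k⁻¹) * (k * ((a : G) * c0) * k⁻¹) := by group
        _ = (k' * ((a : G) * c0) * k'⁻¹) * ((a : G) * c0) := by rw [hkR, hkc']
    have he1 := hkfp _ heW hke
    calc k' * ((a : G) * c0) * k'⁻¹
        = (k' * ((a : G) * c0) * k'⁻¹) * (((a : G) * c0) * ((a : G) * c0)) := by
          rw [hc'2, mul_one]
      _ = ((k' * ((a : G) * c0) * k'⁻¹) * ((a : G) * c0)) * ((a : G) * c0) := by group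
      _ = (a : G) * c0 := by rw [he1, one_mul]
  have huK : ∀ k' ∈ K', u⁻¹ * k' * u ∈ K' := fun k' hk' =>
    (Subgroup.mem_normalizer_iff''.1 (c.hT'K' d.hu) k').1 hk'
  have huc0 : u * c0 * u⁻¹ = c0 := by
    rw [← hcentral u d.hu]
    group
  have hua : u * (a : G) * u⁻¹ ∈ W' := (Subgroup.mem_normalizer_iff.1 (c.hT'W' d.hu) a).1 a.2
  have hf : (u * (a : G) * u⁻¹) * (a : G) ∈ W' := W'.mul_mem hua a.2
  have hkf : k * ((u * (a : G) * u⁻¹) * (a : G)) * k⁻¹ = (u * (a : G) * u⁻¹) * (a : G) := by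
    have e : (u * (a : G) * u⁻¹) * (a : G) =
        (u * ((a : G) * c0) * u⁻¹) * ((a : G) * c0) := by
      have hac : (a : G) * c0 = c0 * (a : G) := hc0W' a a.2
      calc (u * (a : G) * u⁻¹) * (a : G)
          = (u * (a : G) * u⁻¹) * ((a : G) * (c0 * c0)) := by rw [hc02, mul_one]
        _ = (u * (a : G) * u⁻¹) * (((a : G) * c0) * c0) := by group
        _ = (u * (a : G) * u⁻¹) * ((c0 * (a : G)) * c0) := by rw [hac]
        _ = (u * (a : G) * u⁻¹) * c0 * ((a : G) * c0) := by group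
        _ = (u * (a : G) * u⁻¹) * (u * c0 * u⁻¹) * ((a : G) * c0) := by rw [huc0]
        _ = (u * ((a : G) * c0) * u⁻¹) * ((a : G) * c0) := by group
    rw [e]
    have h1 : k * (u * ((a : G) * c0) * u⁻¹) * k⁻¹ = u * ((a : G) * c0) * u⁻¹ := by
      have h2 := hKc' _ (huK k hk)
      calc k * (u * ((a : G) * c0) * u⁻¹) * k⁻¹
          = u * ((u⁻¹ * k * u) * ((a : G) * c0) * (u⁻¹ * k * u)⁻¹) * u⁻¹ := by group
        _ = u * ((a : G) * c0) * u⁻¹ := by rw [h2]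
    calc k * ((u * ((a : G) * c0) * u⁻¹) * ((a : G) * c0)) * k⁻¹
        = (k * (u * ((a : G) * c0) * u⁻¹) * k⁻¹) * (k * ((a : G) * c0) * k⁻¹) := by group
      _ = (u * ((a : G) * c0) * u⁻¹) * ((a : G) * c0) := by rw [h1, hkc']
  have hf1 := hkfp _ hf hkf
  have hua' : u * (a : G) = (a : G) * u := by
    have h1 : u * (a : G) * u⁻¹ = (a : G) := by
      calc u * (a : G) * u⁻¹ = (u * (a : G) * u⁻¹) * ((a : G) * a) := by rw [ha2, mul_one]
        _ = ((u * (a : G) * u⁻¹) * a) * a := by group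
        _ = a := by rw [hf1, one_mul]
    calc u * (a : G) = (u * (a : G) * u⁻¹) * u := by group
      _ = (a : G) * u := by rw [h1]
  rcases c.fix_u d a a.2 hua' with h | h
  · left
    intro k' hk'
    rw [Subgroup.mem_centralizer_iff]
    intro y hy
    rw [Set.mem_singleton_iff] at hy
    have h1 := hKc' k' hk'
    rw [h, one_mul] at h1
    rw [hy]
    calc c0 * k' = (k' * c0 * k'⁻¹) * k' := by rw [h1]
      _ = k' * c0 := by group
  · right
    intro k' hk'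
    rw [Subgroup.mem_centralizer_iff]
    intro y hy
    rw [Set.mem_singleton_iff] at hy
    have h1 := hKc' k' hk'
    have h2 : w0 * c0 = c0 * w0 := hc0W' w0 d.hw0
    rw [h, h2] at h1
    rw [hy]
    calc (c0 * w0) * k' = (k' * (c0 * w0) * k'⁻¹) * k' := by rw [h1]
      _ = k' * (c0 * w0) := by group

/-- The tail of AL: the configuration (with `W ≤ T'` and the involution `u`) is
contradictory. -/
theorem tail_false [Finite G] (c : Ctx S T' K' W W' x z) {u w0 : G} (d : UData T' W' u w0)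
    (hWT' : W ≤ T') : False := by
  obtain ⟨c2, hc2, hc21, hc2z⟩ := exists_ne_of_card_four W c.hW4 z
  have h1 : K' ≤ Subgroup.centralizer ({z * w0} : Set G) := by
    rcases c.cent_or d hWT' c.hzW with h | h
    · exact absurd h (c.hno z c.hzW c.hz1)
    · exact h
  have h2 : K' ≤ Subgroup.centralizer ({c2 * w0} : Set G) := by
    rcases c.cent_or d hWT' hc2 with h | h
    · exact absurd h (c.hno c2 hc2 hc21)
    · exact h
  have hzc2 : z * c2 ≠ 1 := by
    intro h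
    exact hc2z (mul_left_cancel (h.trans (c.hW2 z c.hzW).symm))
  apply c.hno (z * c2) (W.mul_mem c.hzW hc2) hzc2
  intro k' hk'
  have e1 := Subgroup.mem_centralizer_iff.1 (h1 hk') (z * w0) (Set.mem_singleton _)
  have e2 := Subgroup.mem_centralizer_iff.1 (h2 hk') (c2 * w0) (Set.mem_singleton _)
  have hWQ := c.W_le_Q d hWT'
  have hw0c2 : w0 * c2 = c2 * w0 :=
    (Subgroup.mem_centralizer_iff.1 (Subgroup.mem_inf.1 (hWQ hc2)).2) w0 d.hw0
  have hw02 : w0 * w0 = 1 := c.hW'2 w0 d.hw0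
  have e : z * c2 = (z * w0) * (c2 * w0) := by
    calc z * c2 = z * (c2 * (w0 * w0)) := by rw [hw02, mul_one]
      _ = z * ((c2 * w0) * w0) := by group
      _ = z * ((w0 * c2) * w0) := by rw [hw0c2]
      _ = (z * w0) * (c2 * w0) := by group
  rw [Subgroup.mem_centralizer_iff]
  intro y hy
  rw [Set.mem_singleton_iff] at hy
  rw [hy, e]
  calc (z * w0) * (c2 * w0) * k' = (z * w0) * ((c2 * w0) * k') := by group
    _ = (z * w0) * (k' * (c2 * w0)) := by rw [e2]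
    _ = ((z * w0) * k') * (c2 * w0) := by group
    _ = (k' * (z * w0)) * (c2 * w0) := by rw [e1]
    _ = k' * ((z * w0) * (c2 * w0)) := by group

end Ctx

/-- **AL, tail (steps 4-7).**  Hypotheses: helper34's `al` list verbatim (with `hWS` last),
plus the output of the head (`W ≤ T'` and the involution `u`). -/
theorem al_tail [Finite G] (S T' K' W W' : Subgroup G) (x z u w0 : G)
    (hW4 : Nat.card ↥W = 4) (hW2 : ∀ w ∈ W, w * w = 1)
    (hSW : S ≤ Subgroup.normalizer (W : Set G))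
    (hzW : z ∈ W) (hz1 : z ≠ 1) (hzS : ∀ s ∈ S, s * z = z * s)
    (hP2 : ∀ u ∈ W, u ≠ 1 →
      Subgroup.centralizer ({u} : Set G) ≤ Subgroup.normalizer (W : Set G))
    (hT'S : T' ≤ S) (hT'K' : T' ≤ Subgroup.normalizer (K' : Set G))
    (hW'4 : Nat.card ↥W' = 4) (hW'2 : ∀ w ∈ W', w * w = 1)
    (hK'W' : K' ≤ Subgroup.normalizer (W' : Set G))
    (hT'W' : T' ≤ Subgroup.normalizer (W' : Set G)) (hW'T' : W' ≤ T')
    (hQidx : (T' ⊓ Subgroup.centralizer (W' : Set G)).relIndex T' = 2)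
    (hK'Q : K' ≤ Subgroup.normalizer
      ((T' ⊓ Subgroup.centralizer (W' : Set G) : Subgroup G) : Set G))
    (hcomm : ⁅K', T'⁆ = K')
    (hK'idx : (K' ⊓ Subgroup.centralizer (W' : Set G)).relIndex K' = 3)
    (hK'C : K' ⊓ Subgroup.centralizer (W' : Set G) ≤ T')
    (hfp : ∃ k ∈ K', ∀ w ∈ W', k * w * k⁻¹ = w → w = 1)
    (hxS : x ∈ S) (hxT' : x ∈ Subgroup.normalizer (T' : Set G)) (hxn : x ∉ T')
    (hx2 : x * x ∈ T')
    (hKP : ∀ X : Subgroup G, X ≠ ⊥ → X ≤ T' → K' ≤ Subgroup.normalizer (X : Set G) →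
      T' ≤ Subgroup.normalizer (X : Set G) → ∀ s ∈ S, s ∈ Subgroup.normalizer (X : Set G) →
      s ∈ T')
    (hno : ∀ c ∈ W, c ≠ 1 → ¬ K' ≤ Subgroup.centralizer ({c} : Set G))
    (hWS : W ≤ S)
    (hWT' : W ≤ T') (hu : u ∈ T') (huQ : u ∉ T' ⊓ Subgroup.centralizer (W' : Set G))
    (hu2 : u * u = 1) (hw0 : w0 ∈ W') (hw01 : w0 ≠ 1) (huw0 : u * w0 = w0 * u)
    (hQu : ∀ q ∈ T' ⊓ Subgroup.centralizer (W' : Set G),
      q * u * q⁻¹ = u ∨ q * u * q⁻¹ = u * w0) : False :=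
  Ctx.tail_false
    ⟨hW4, hW2, hSW, hzW, hz1, hzS, hP2, hT'S, hT'K', hW'4, hW'2, hK'W', hT'W', hW'T', hQidx,
      hK'Q, hcomm, hK'idx, hK'C, hfp, hxS, hxT', hxn, hx2, hKP, hno, hWS⟩
    ⟨hu, huQ, hu2, hw0, hw01, huw0, hQu⟩ hWT'

end Cfsg.Agent.Lib.Helper90.KS12
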