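import Mathlib
import Cfsg.Agent.Lib.Helper90.KS12.ALTail3
import Cfsg.Agent.Lib.Helper97.KS12.ALHead
import Cfsg.Agent.Lib.Helper34.KS12.UG

/-!
# KS12 / S2953: the abstract lemma AL (head by helper97, tail by helper90)
-/

set_option autoImplicit false

namespace Cfsg.Agent.Lib.Helper90.KS12

variable {G : Type*} [Group G]

/-- The abstract lemma AL, in the form required by helper34's `not_U_of_eq`. -/
theorem al [Finite G] : Cfsg.Agent.Lib.Helper34.KS12.ALStatement G := by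
  intro S T' K' W W' x z hW4 hW2 hSW hzW hz1 hzS hP2 hT'S hT'K' hW'4 hW'2 hK'W' hT'W' hW'T'
    hQidx hK'Q hcomm hK'idx hK'C hfp hxS hxT' hxn hx2 hKP hno hWS
  obtain ⟨hWT', u, w0, hu, huQ, hu2, hw0, hw01, huw0, hQu⟩ :=
    Cfsg.Agent.Lib.Helper97.KS12.al_head S T' K' W W' x z hW4 hW2 hSW hzW hz1 hzS hP2 hT'S
      hT'K' hW'4 hW'2 hK'W' hT'W' hW'T' hQidx hK'Q hcomm hK'idx hK'C hfp hxS hxT' hxn hx2 hKP
      hno hWS
  exact al_tail S T' K' W W' x z u w0 hW4 hW2 hSW hzW hz1 hzS hP2 hT'S hT'K' hW'4 hW'2 hK'W'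
    hT'W' hW'T' hQidx hK'Q hcomm hK'idx hK'C hfp hxS hxT' hxn hx2 hKP hno hWS hWT' hu huQ hu2
    hw0 hw01 huw0 hQu

end Cfsg.Agent.Lib.Helper90.KS12
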